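import Mathlib
import Groth.Prelude.Def_W4bk5brsh16IT

/-!
Elements of the ideal transform `D_I(M) = colim_n Hom(I^n, M)`.
-/

namespace Groth.Agent.LocTrans

universe u

open CategoryTheory CategoryTheory.Limits Opposite

instance forgetPreservesSmall (R : Type u) [CommRing R] :
    PreservesFilteredColimitsOfSize.{0, 0} (forget (ModuleCat.{u} R)) :=
  preservesSmallestFilteredColimits_of_preservesFilteredColimits _

variable {R : Type u} [CommRing R] (I : Ideal R) (M : Type u) [AddCommGroup M] [Module R M]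

/-- The cocone computing `DT I M`. -/
noncomputable def evalCocone :
    Cocone (LocCoh.transformDiagram I ⋙ (evaluation _ _).obj (ModuleCat.of R M)) :=
  ((evaluation _ _).obj (ModuleCat.of R M)).mapCocone (colimit.cocone (LocCoh.transformDiagram I))

noncomputable def evalCoconeIsColimit : IsColimit (evalCocone I M) :=
  isColimitOfPreserves _ (colimit.isColimit (LocCoh.transformDiagram I))

/-- The class in `D_I(M)` of a linear map `I^n → M`. -/
noncomputable def dι (n : ℕ) : (↥(I ^ n) →ₗ[R] M) →ₗ[R] LocCoh.DT I M :=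
  ((colimit.ι (LocCoh.transformDiagram I) (op (op n))).app (ModuleCat.of R M)).hom ∘ₗ
    (ModuleCat.homLinearEquiv (S := R) (M := ModuleCat.of R ↥(I ^ n))
      (N := ModuleCat.of R M)).symm.toLinearMap

variable {I M}

/-- Restriction along `I^m ≤ I^n`. -/
def res {n m : ℕ} (h : n ≤ m) : (↥(I ^ n) →ₗ[R] M) →ₗ[R] (↥(I ^ m) →ₗ[R] M) :=
  LinearMap.lcomp R M (Submodule.inclusion (Ideal.pow_le_pow_right h))

@[simp] theorem res_apply {n m : ℕ} (h : n ≤ m) (f : ↥(I ^ n) →ₗ[R] M) (a : ↥(I ^ m)) :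
    res h f a = f ⟨a, Ideal.pow_le_pow_right h a.2⟩ := rfl

theorem dι_res {n m : ℕ} (h : n ≤ m) (f : ↥(I ^ n) →ₗ[R] M) :
    dι I M m (res h f) = dι I M n f := by
  have hw := (evalCocone I M).w (((homOfLE h).op.op) : (op (op n) : ℕᵒᵖᵒᵖ) ⟶ op (op m))
  exact congrArg (fun φ => φ.hom ((ModuleCat.homLinearEquiv (S := R)
    (M := ModuleCat.of R ↥(I ^ n)) (N := ModuleCat.of R M)).symm f)) hw

theorem toDT_eq_dι (m : M) :
    LocCoh.toDT I M m = dι I M 0 (((LinearMap.lsmul R M).domRestrict (I ^ 0)).flip m) := rfl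

theorem exists_dι (x : LocCoh.DT I M) : ∃ n f, dι I M n f = x := by
  obtain ⟨⟨⟨n⟩⟩, y, hy⟩ := Concrete.isColimit_exists_rep _ (evalCoconeIsColimit I M) x
  exact ⟨n, ModuleCat.Hom.hom (R := R) (A := ModuleCat.of R ↥(I ^ n)) (B := ModuleCat.of R M) y,
    by rw [← hy]; rfl⟩

theorem dι_eq_zero_iff {n : ℕ} {f : ↥(I ^ n) →ₗ[R] M} :
    dι I M n f = 0 ↔ ∃ m, ∃ h : n ≤ m, res h f = 0 := by
  constructor
  · intro h
    obtain ⟨⟨⟨m⟩⟩, g, g', hg⟩ := (Concrete.isColimit_rep_eq_iff_exists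
      (LocCoh.transformDiagram I ⋙ (evaluation _ _).obj (ModuleCat.of R M))
      (i := op (op n)) (j := op (op n)) (evalCoconeIsColimit I M)
      ((ModuleCat.homLinearEquiv (S := R) (M := ModuleCat.of R ↥(I ^ n))
        (N := ModuleCat.of R M)).symm f) 0).1 (h.trans (map_zero _).symm)
    refine ⟨m, leOfHom g.unop.unop, ?_⟩
    have := congrArg (ModuleCat.homLinearEquiv (S := R) (M := ModuleCat.of R ↥(I ^ m))
      (N := ModuleCat.of R M)) hg
    rw [map_zero] at this
    exact this.trans (map_zero _)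
  · rintro ⟨m, h, hm⟩
    rw [← dι_res h, hm, map_zero]

theorem map_dι {N : Type u} [AddCommGroup N] [Module R N] (g : M →ₗ[R] N) (n : ℕ)
    (f : ↥(I ^ n) →ₗ[R] M) :
    ((LocCoh.idealTransform I).map (ModuleCat.ofHom g)).hom (dι I M n f) = dι I N n (g ∘ₗ f) := by
  have := (colimit.ι (LocCoh.transformDiagram I) (op (op n))).naturality (ModuleCat.ofHom g)
  exact congrArg (fun φ => φ.hom ((ModuleCat.homLinearEquiv (S := R)
    (M := ModuleCat.of R ↥(I ^ n)) (N := ModuleCat.of R M)).symm f)) this.symm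

theorem map_toDT {N : Type u} [AddCommGroup N] [Module R N] (g : M →ₗ[R] N) (m : M) :
    ((LocCoh.idealTransform I).map (ModuleCat.ofHom g)).hom (LocCoh.toDT I M m) =
      LocCoh.toDT I N (g m) := by
  rw [toDT_eq_dι, toDT_eq_dι, map_dι]
  congr 1
  ext a
  simp [LinearMap.domRestrict]

theorem smul_dι_eq_toDT {n : ℕ} (f : ↥(I ^ n) →ₗ[R] M) (a : ↥(I ^ n)) :
    (a : R) • dι I M n f = LocCoh.toDT I M (f a) := by
  rw [toDT_eq_dι, ← map_smul, ← dι_res (Nat.zero_le n) (((LinearMap.lsmul R M).domRestrict (I ^ 0)).flip (f a))]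
  congr 1
  ext b
  show (a : R) • f b = (b : R) • f a
  rw [← map_smul, ← map_smul]
  exact congrArg f (Subtype.ext (mul_comm (a : R) b))

theorem toDT_eq_zero_iff {m : M} :
    LocCoh.toDT I M m = 0 ↔ m ∈ DRing.torsionSub I M := by
  rw [toDT_eq_dι, dι_eq_zero_iff]
  constructor
  · rintro ⟨k, h, hk⟩
    exact ⟨k, fun a ha => LinearMap.congr_fun hk ⟨a, ha⟩⟩
  · rintro ⟨k, hk⟩
    exact ⟨k, Nat.zero_le k, LinearMap.ext fun a => hk a a.2⟩

end Groth.Agent.LocTrans
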