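import Mathlib
import Groth.Prelude.Def_W4bk5brsh16IT
import Groth.Agent.LocTrans.Interface
import Groth.Agent.PowTors.Basic

/-!
Torsion, lifting and the universal property of ideal transforms over Noetherian rings.
-/

namespace Groth.Agent.LocTrans

universe u

open CategoryTheory CategoryTheory.Limits Opposite

variable {R : Type u} [CommRing R] [IsNoetherianRing R] {I : Ideal R}
  {M : Type u} [AddCommGroup M] [Module R M]

omit [IsNoetherianRing R] in
/-- Finitely many torsion elements are killed by one power. -/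
theorem exists_pow_kill {X : Type u} [AddCommGroup X] [Module R X] [Module.Finite R X]
    (f : X →ₗ[R] M) (h : ∀ x, f x ∈ DRing.torsionSub I M) :
    ∃ k, ∀ a ∈ I ^ k, ∀ x, a • f x = 0 := by
  classical
  obtain ⟨S, hS⟩ := (Module.finite_def.1 inferInstance : (⊤ : Submodule R X).FG)
  choose k hk using fun x : S => h x
  refine ⟨Finset.univ.sup k, fun a ha x => ?_⟩
  have hx : x ∈ Submodule.span R (S : Set X) := hS ▸ Submodule.mem_top
  induction hx using Submodule.span_induction with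
  | mem y hy =>
    exact hk ⟨y, hy⟩ a (Ideal.pow_le_pow_right (Finset.le_sup (Finset.mem_univ _)) ha)
  | zero => rw [map_zero, smul_zero]
  | add y z _ _ hy hz => rw [map_add, smul_add, hy, hz, add_zero]
  | smul c y _ hy => rw [map_smul, smul_comm, hy, smul_zero]

/-- A map with torsion image vanishes on a smaller power. -/
theorem exists_res_eq_zero {n : ℕ} (f : ↥(I ^ n) →ₗ[R] M)
    (h : ∀ a, f a ∈ DRing.torsionSub I M) : ∃ m, ∃ hm : n ≤ m, res hm f = 0 := by
  obtain ⟨k, hk⟩ := exists_pow_kill f h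
  refine ⟨k + n, Nat.le_add_left n k, LinearMap.ext fun ⟨x, hx⟩ => ?_⟩
  rw [res_apply, LinearMap.zero_apply]
  have hx' : x ∈ I ^ k * I ^ n := by rwa [← pow_add]
  suffices H : ∃ h : x ∈ I ^ n, f ⟨x, h⟩ = 0 from H.2
  refine Submodule.mul_induction_on hx' (fun a ha b hb => ⟨Ideal.mul_mem_left _ a hb, ?_⟩) ?_
  · exact (map_smul f a (⟨b, hb⟩ : ↥(I ^ n))).trans (hk a ha _)
  · rintro y z ⟨hy, hy0⟩ ⟨hz, hz0⟩
    exact ⟨add_mem hy hz,
      (map_add f (⟨y, hy⟩ : ↥(I ^ n)) ⟨z, hz⟩).trans (by rw [hy0, hz0, add_zero])⟩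

omit [IsNoetherianRing R] in
theorem ker_toDT : LinearMap.ker (LocCoh.toDT I M) = DRing.torsionSub I M :=
  Submodule.ext fun _ => toDT_eq_zero_iff

theorem dι_eq_zero_of_torsion {n : ℕ} {f : ↥(I ^ n) →ₗ[R] M}
    (h : ∀ a, f a ∈ DRing.torsionSub I M) : dι I M n f = 0 :=
  dι_eq_zero_iff.2 (exists_res_eq_zero f h)

theorem subsingleton_DT (hM : LocCoh.IsPowerTorsion I M) : Subsingleton (LocCoh.DT I M) :=
  subsingleton_of_forall_eq 0 fun x => by
    obtain ⟨n, f, rfl⟩ := exists_dι x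
    exact dι_eq_zero_of_torsion fun a => hM _

omit [IsNoetherianRing R] in
theorem exists_smul_eq_toDT (x : LocCoh.DT I M) :
    ∃ n, ∀ a ∈ I ^ n, ∃ m, a • x = LocCoh.toDT I M m := by
  obtain ⟨n, f, rfl⟩ := exists_dι x
  exact ⟨n, fun a ha => ⟨f ⟨a, ha⟩, smul_dι_eq_toDT f ⟨a, ha⟩⟩⟩

omit [IsNoetherianRing R] in
theorem isPowerTorsion_coker_toDT :
    LocCoh.IsPowerTorsion I (LocCoh.DT I M ⧸ LinearMap.range (LocCoh.toDT I M)) := by
  intro z
  obtain ⟨x, rfl⟩ := Submodule.Quotient.mk_surjective _ z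
  obtain ⟨n, hn⟩ := exists_smul_eq_toDT x
  refine ⟨n, fun a ha => ?_⟩
  rw [← Submodule.Quotient.mk_smul, Submodule.Quotient.mk_eq_zero]
  obtain ⟨m, hm⟩ := hn a ha
  exact ⟨m, hm.symm⟩

theorem torsionSub_DT : DRing.torsionSub I (LocCoh.DT I M) = ⊥ := by
  rw [eq_bot_iff]
  rintro x ⟨k, hk⟩
  obtain ⟨n, f, rfl⟩ := exists_dι x
  rw [Submodule.mem_bot]
  refine dι_eq_zero_of_torsion fun a => ?_
  refine PowTors.mem_torsionSub_of_pow_smul_mem (IsNoetherian.noetherian I) k fun b hb => ?_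
  rw [← toDT_eq_zero_iff, map_smul, ← smul_dι_eq_toDT, smul_comm, hk b hb, smul_zero]

theorem eq_of_forall_smul_eq {x y : LocCoh.DT I M} (n : ℕ) (h : ∀ a ∈ I ^ n, a • x = a • y) :
    x = y := by
  rw [← sub_eq_zero, ← Submodule.mem_bot R, ← torsionSub_DT (I := I) (M := M)]
  exact ⟨n, fun a ha => by rw [smul_sub, h a ha, sub_self]⟩

/-- Extending an assignment on generators of a power to a linear map on a smaller power. -/
theorem exists_hom_of_gens {s n : ℕ} (a : Fin s → R) (ha : Submodule.span R (Set.range a) = I ^ n)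
    (l : Fin s → M)
    (h : ∀ c : Fin s → R, ∑ i, c i • a i = 0 → ∑ i, c i • l i ∈ DRing.torsionSub I M) :
    ∃ m, ∃ _ : n ≤ m, ∃ g : ↥(I ^ m) →ₗ[R] M, ∀ x : ↥(I ^ m),
      ∃ c : Fin s → R, (x : R) = ∑ i, c i • a i ∧ g x = ∑ i, c i • l i := by
  classical
  let π : (Fin s → R) →ₗ[R] R := Fintype.linearCombination R a
  let Φ : (Fin s → R) →ₗ[R] M := Fintype.linearCombination R l
  let K : Submodule R (Fin s → R) := LinearMap.ker π
  have : Module.Finite R K := Module.Finite.iff_fg.2 (IsNoetherian.noetherian K)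
  obtain ⟨k, hk⟩ := exists_pow_kill (I := I) (Φ ∘ₗ K.subtype) fun v => h v.1 v.2
  obtain ⟨c₀, hc₀⟩ := Ideal.exists_pow_inf_eq_pow_smul I K
  let W : Submodule R (Fin s → R) := I ^ (c₀ + k) • ⊤
  have himg : W.map π = I ^ (c₀ + k + n) := by
    rw [Submodule.map_smul'', Submodule.map_top, Fintype.range_linearCombination, ha, smul_eq_mul,
      ← pow_add]
  let π' : ↥W →ₗ[R] ↥(I ^ (c₀ + k + n)) :=
    (π ∘ₗ W.subtype).codRestrict _ fun v => himg ▸ Submodule.mem_map_of_mem v.2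
  have hsurj : Function.Surjective π' := fun x => by
    obtain ⟨v, hv, hvx⟩ := (himg.symm ▸ x.2 : (x : R) ∈ W.map π)
    exact ⟨⟨v, hv⟩, Subtype.ext hvx⟩
  have hker : LinearMap.ker π' ≤ LinearMap.ker (Φ ∘ₗ W.subtype) := by
    rintro ⟨v, hv⟩ hπ
    have hvK : v ∈ K := congrArg Subtype.val hπ
    have hvA : v ∈ I ^ (c₀ + k - c₀) • (I ^ c₀ • ⊤ ⊓ K) := hc₀ (c₀ + k) (Nat.le_add_right _ _) ▸ ⟨hv, hvK⟩
    rw [Nat.add_sub_cancel_left] at hvA
    show Φ v = 0
    refine Submodule.smul_induction_on hvA (fun b hb w hw => ?_)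
      (fun x y hx hy => by rw [map_add, hx, hy, add_zero])
    rw [map_smul]
    exact hk b hb ⟨w, hw.2⟩
  refine ⟨c₀ + k + n, Nat.le_add_left n _,
    (LinearMap.ker π').liftQ (Φ ∘ₗ W.subtype) hker ∘ₗ
      (π'.quotKerEquivOfSurjective hsurj).symm.toLinearMap, fun x => ?_⟩
  obtain ⟨v, rfl⟩ := hsurj x
  refine ⟨v.1, Fintype.linearCombination_apply R a v.1, ?_⟩
  have : (π'.quotKerEquivOfSurjective hsurj).symm (π' v) = Submodule.Quotient.mk v := by
    rw [LinearEquiv.symm_apply_eq]; rfl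
  rw [LinearMap.comp_apply, LinearEquiv.coe_coe, this, Submodule.liftQ_apply]
  exact Fintype.linearCombination_apply R l v.1

variable {M' : Type u} [AddCommGroup M'] [Module R M']

/-- Lifting maps along a morphism with torsion kernel and cokernel. -/
theorem exists_lift {e : M →ₗ[R] M'} (hker : LinearMap.ker e ≤ DRing.torsionSub I M)
    (hcoker : LocCoh.IsPowerTorsion I (M' ⧸ LinearMap.range e)) {n : ℕ} (f : ↥(I ^ n) →ₗ[R] M') :
    ∃ m, ∃ h : n ≤ m, ∃ g : ↥(I ^ m) →ₗ[R] M, e ∘ₗ g = res h f := by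
  classical
  obtain ⟨k, hk, hkf⟩ := exists_res_eq_zero ((LinearMap.range e).mkQ ∘ₗ f) fun a => hcoker _
  obtain ⟨s, a, ha⟩ := Submodule.fg_iff_exists_fin_generating_family.1
    (IsNoetherian.noetherian (I ^ k))
  have hmem : ∀ i, a i ∈ I ^ k := fun i => ha ▸ Submodule.subset_span ⟨i, rfl⟩
  have hl : ∀ i, ∃ l, e l = f ⟨a i, Ideal.pow_le_pow_right hk (hmem i)⟩ := fun i =>
    (Submodule.Quotient.mk_eq_zero _).1 (LinearMap.congr_fun hkf ⟨a i, hmem i⟩)
  choose l hl using hl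
  have hrel : ∀ c : Fin s → R,
      e (∑ i, c i • l i) = f (∑ i, c i • ⟨a i, Ideal.pow_le_pow_right hk (hmem i)⟩) := fun c => by
    simp only [map_sum, map_smul, hl]
  obtain ⟨m, hkm, g, hg⟩ := exists_hom_of_gens a ha l fun c hc => hker <| by
    rw [LinearMap.mem_ker, hrel, show (∑ i, c i • (⟨a i, Ideal.pow_le_pow_right hk (hmem i)⟩ : ↥(I ^ n)))
      = 0 from Subtype.ext (by simpa using hc), map_zero]
  refine ⟨m, hk.trans hkm, g, LinearMap.ext fun x => ?_⟩
  obtain ⟨c, hx, hgx⟩ := hg x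
  rw [LinearMap.comp_apply, hgx, hrel, res_apply]
  congr 1
  exact Subtype.ext (by simpa using hx.symm)

theorem map_bijective {e : M →ₗ[R] M'} (hker : LinearMap.ker e ≤ DRing.torsionSub I M)
    (hcoker : LocCoh.IsPowerTorsion I (M' ⧸ LinearMap.range e)) :
    Function.Bijective ((LocCoh.idealTransform I).map (ModuleCat.ofHom e)).hom := by
  refine ⟨(injective_iff_map_eq_zero _).2 fun x hx => ?_, fun y => ?_⟩
  · obtain ⟨n, f, rfl⟩ := exists_dι x
    rw [map_dι, dι_eq_zero_iff] at hx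
    obtain ⟨m, h, hm⟩ := hx
    rw [← dι_res h f]
    exact dι_eq_zero_of_torsion fun a => hker (LinearMap.congr_fun hm a)
  · obtain ⟨n, f, rfl⟩ := exists_dι y
    obtain ⟨m, h, g, hg⟩ := exists_lift hker hcoker f
    exact ⟨dι I M m g, by rw [map_dι, hg, dι_res]⟩

/-- The isomorphism induced by a morphism with torsion kernel and cokernel. -/
noncomputable def mapEquiv {e : M →ₗ[R] M'} (hker : LinearMap.ker e ≤ DRing.torsionSub I M)
    (hcoker : LocCoh.IsPowerTorsion I (M' ⧸ LinearMap.range e)) :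
    LocCoh.DT I M ≃ₗ[R] LocCoh.DT I M' :=
  LinearEquiv.ofBijective _ (map_bijective hker hcoker)

variable {K : Type u} [AddCommGroup K] [Module R K]

theorem hom_ext {e : M →ₗ[R] M'} (hcoker : LocCoh.IsPowerTorsion I (M' ⧸ LinearMap.range e))
    {φ φ' : M' →ₗ[R] LocCoh.DT I K} (h : φ ∘ₗ e = φ' ∘ₗ e) : φ = φ' := by
  refine LinearMap.ext fun y => ?_
  obtain ⟨n, hn⟩ := hcoker (Submodule.Quotient.mk y)
  refine eq_of_forall_smul_eq n fun a ha => ?_
  obtain ⟨m, hm⟩ := (Submodule.Quotient.mk_eq_zero _).1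
    ((Submodule.Quotient.mk_smul _ a y).trans (hn a ha))
  rw [← map_smul, ← map_smul, ← hm]
  exact LinearMap.congr_fun h m

theorem existsUnique_extension {e : M →ₗ[R] M'} (hker : LinearMap.ker e ≤ DRing.torsionSub I M)
    (hcoker : LocCoh.IsPowerTorsion I (M' ⧸ LinearMap.range e)) (ψ : M →ₗ[R] K) :
    ∃! ψ' : M' →ₗ[R] LocCoh.DT I K, ψ' ∘ₗ e = LocCoh.toDT I K ∘ₗ ψ := by
  let ψ' : M' →ₗ[R] LocCoh.DT I K := ((LocCoh.idealTransform I).map (ModuleCat.ofHom ψ)).hom ∘ₗ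
    (mapEquiv hker hcoker).symm.toLinearMap ∘ₗ LocCoh.toDT I M'
  have h : ψ' ∘ₗ e = LocCoh.toDT I K ∘ₗ ψ := LinearMap.ext fun m => by
    have : (mapEquiv hker hcoker).symm (LocCoh.toDT I M' (e m)) = LocCoh.toDT I M m := by
      rw [LinearEquiv.symm_apply_eq]
      exact (map_toDT e m).symm
    show ((LocCoh.idealTransform I).map (ModuleCat.ofHom ψ)).hom
      ((mapEquiv hker hcoker).symm (LocCoh.toDT I M' (e m))) = LocCoh.toDT I K (ψ m)
    rw [this]
    exact map_toDT ψ m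
  exact ⟨ψ', h, fun φ hφ => hom_ext hcoker (hφ.trans h.symm)⟩

theorem toDT_DT_bijective : Function.Bijective (LocCoh.toDT I (LocCoh.DT I M)) := by
  have hker : LinearMap.ker (LocCoh.toDT I M) ≤ DRing.torsionSub I M := ker_toDT.le
  have h : LocCoh.toDT I (LocCoh.DT I M) =
      ((LocCoh.idealTransform I).map (ModuleCat.ofHom (LocCoh.toDT I M))).hom :=
    hom_ext isPowerTorsion_coker_toDT (LinearMap.ext fun m => (map_toDT (LocCoh.toDT I M) m).symm)
  rw [h]
  exact map_bijective hker isPowerTorsion_coker_toDT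

end Groth.Agent.LocTrans
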